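-- Team project SUG (S2412), block [II], package [II-ALLPAIRS] (helper65).
import Mathlib
import Cfsg.Agent.Lib.Helper71.SUG2.Defs

set_option autoImplicit false
open scoped Matrix

namespace Cfsg.Agent.Lib.Helper65.SUG2

open Cfsg.Agent.Lib.Helper71.SUG2

universe u

/-- [II-ALLPAIRS] from adjacent pairs to all pairs. -/
theorem pkgAllPairs : PkgAllPairs.{u} := by
  intro F _ _ hF n hn C hC hadj i j hij a ha
  classical
  have h2 : (2 : F) = 0 := f4_two hF
  obtain ⟨m, rfl⟩ : ∃ m, n = m + 2 := ⟨n - 2, by omega⟩
  have hfix : ∀ k : Fin (m + 2), finRotate (m + 2) k ≠ k := by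
    intro k
    have hk : k ∈ Equiv.Perm.support (finRotate (m + 2)) := by
      rw [support_finRotate]
      exact Finset.mem_univ k
    exact Equiv.Perm.mem_support.1 hk
  have hHgen : ∀ (a : F) (k k' : Fin (m + 2)), k ≠ i → k' ≠ i → k' ≠ k →
      H (m + 2) F (E i + a • E k) (E k + (1 : F) • E k') = a := by
    intro a k k' hki hk'i hk'k
    rw [H_apply, Finset.sum_eq_single k]
    · simp [Pi.single_apply, hki, hk'k.symm]
    · intro t _ htk
      by_cases ht : t = k'
      · subst ht
        simp [Pi.single_apply, hk'i, hk'k]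
      · simp [Pi.single_apply, htk, ht]
    · intro h
      exact absurd (Finset.mem_univ k) h
  -- the key step
  have step : ∀ k : Fin (m + 2), k ≠ i → finRotate (m + 2) k ≠ i →
      (∀ a : F, a ≠ 0 → (E i + a • E k : Fin (m + 2) → F) ∈ C) →
      ∀ a : F, a ≠ 0 → (E i + a • E (finRotate (m + 2) k) : Fin (m + 2) → F) ∈ C := by
    intro k hki hρki hk a ha
    have he := hk a ha
    have hf := hadj k 1 one_ne_zero
    have hH : H (m + 2) F (E i + a • E k) (E k + (1 : F) • E (finRotate (m + 2) k)) = a :=
      hHgen a k (finRotate (m + 2) k) hki hρki (hfix k)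
    have h3 := hC.third _ he _ hf
    rw [hH] at h3
    have e : (E i + a • E k + a • (E k + (1 : F) • E (finRotate (m + 2) k)) : Fin (m + 2) → F) =
        E i + a • E (finRotate (m + 2) k) := by
      have hz : (a • E k + a • E k : Fin (m + 2) → F) = 0 := by
        rw [← add_smul, ← two_mul, h2, zero_mul, zero_smul]
      rw [one_smul, smul_add, add_assoc, ← add_assoc (a • E k), hz, zero_add]
    rw [e] at h3
    exact h3
  -- iterate along the orbit of `i`
  have iter : ∀ t : ℕ, 1 ≤ t → (∀ u, 1 ≤ u → u ≤ t → (finRotate (m + 2) ^ u) i ≠ i) →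
      ∀ a : F, a ≠ 0 → (E i + a • E ((finRotate (m + 2) ^ t) i) : Fin (m + 2) → F) ∈ C := by
    intro t
    induction t with
    | zero => intro h; omega
    | succ t ih =>
      intro _ hno a ha
      by_cases ht : t = 0
      · subst ht
        have e : (finRotate (m + 2) ^ (0 + 1)) i = finRotate (m + 2) i := by simp
        rw [e]
        exact hadj i a ha
      · have h1 : 1 ≤ t := by omega
        have hk := ih h1 (fun u hu1 hut => hno u hu1 (by omega))
        have e : (finRotate (m + 2) ^ (t + 1)) i =
            finRotate (m + 2) ((finRotate (m + 2) ^ t) i) := by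
          rw [pow_succ']
          rfl
        rw [e]
        exact step _ (hno t h1 (by omega)) (by rw [← e]; exact hno (t + 1) (by omega) le_rfl)
          hk a ha
  -- `j` lies on the orbit of `i`
  have hcyc : Equiv.Perm.IsCycle (finRotate (m + 2)) := isCycle_finRotate
  have hex : ∃ s : ℕ, (finRotate (m + 2) ^ s) i = j := hcyc.exists_pow_eq (hfix i) (hfix j)
  have hs := Nat.find_spec hex
  have hmin : ∀ u, u < Nat.find hex → ¬ (finRotate (m + 2) ^ u) i = j :=
    fun u hu => Nat.find_min hex hu
  generalize Nat.find hex = s at hs hmin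
  have hs1 : 1 ≤ s := by
    by_contra h0
    have hs0 : s = 0 := by omega
    rw [hs0] at hs
    exact hij hs
  have hno : ∀ u, 1 ≤ u → u ≤ s → (finRotate (m + 2) ^ u) i ≠ i := by
    intro u hu1 hus hui
    by_cases hu : u = s
    · rw [hu, hs] at hui
      exact hij hui.symm
    · have hlt : s - u < s := by omega
      apply hmin (s - u) hlt
      have e : (finRotate (m + 2) ^ s) i =
          (finRotate (m + 2) ^ (s - u)) ((finRotate (m + 2) ^ u) i) := by
        rw [← Equiv.Perm.mul_apply, ← pow_add]
        congr 2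
        omega
      rw [← hs, e, hui]
  have hfin := iter s hs1 hno a ha
  rw [hs] at hfin
  exact hfin

end Cfsg.Agent.Lib.Helper65.SUG2
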