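-- Team project SUG (S2412), block [II], packages [II-ISOWT], [II-WISO], [II-DPROD] (helper65).
import Mathlib
import Cfsg.Agent.Lib.Helper71.SUG2.Defs

set_option autoImplicit false
open scoped Matrix

namespace Cfsg.Agent.Lib.Helper65.SUG2

open Cfsg.Agent.Lib.Helper71.SUG2

universe u

/-- [II-ISOWT] isotropic = even weight. -/
theorem pkgIsoWt : PkgIsoWt.{u} := by
  intro F _ _ hF n v
  classical
  have h2 : (2 : F) = 0 := f4_two hF
  have hH : H n F v v = ((weight v : ℕ) : F) := by
    rw [H_apply]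
    unfold weight
    rw [Finset.card_filter, Nat.cast_sum]
    apply Finset.sum_congr rfl
    intro i _
    by_cases hi : v i = 0
    · simp [hi]
    · have h3 := f4_cube hF (v i) hi
      simp only [ne_eq, hi, not_false_eq_true, if_true, Nat.cast_one]
      rw [← h3]
      ring
  rw [hH]
  constructor
  · intro h
    by_contra hodd
    rw [Nat.not_even_iff_odd] at hodd
    obtain ⟨j, hj⟩ := hodd
    rw [hj] at h
    push_cast at h
    rw [h2, zero_mul, zero_add] at h
    exact one_ne_zero h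
  · rintro ⟨j, hj⟩
    rw [hj]
    push_cast
    rw [← two_mul, h2, zero_mul]

/-- [II-WISO] `w` is isotropic. -/
theorem pkgWIso : PkgWIso.{u} := by
  intro F _ _ hF n hn
  have h2 : (2 : F) = 0 := f4_two hF
  obtain ⟨m, rfl⟩ : ∃ m, n = 4 + m := ⟨n - 4, by omega⟩
  rw [H_apply, Fin.sum_univ_add, Fin.sum_univ_four]
  have e1 : ∀ i : Fin 4, wvec (4 + m) F (Fin.castAdd m i) = 1 := by
    intro i
    unfold wvec
    rw [if_pos]
    rw [Fin.val_castAdd]
    exact i.2
  have e2 : ∀ j : Fin m, wvec (4 + m) F (Fin.natAdd 4 j) = 0 := by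
    intro j
    unfold wvec
    rw [if_neg]
    rw [Fin.val_natAdd]
    omega
  rw [e1, e1, e1, e1, Finset.sum_eq_zero (fun j _ => by rw [e2]; ring)]
  linear_combination (2 : F) * h2

/-- [II-DPROD] the diagonal `dvec` has determinant 1. -/
theorem pkgDProd : PkgDProd.{u} := by
  intro F _ n hn α hα
  obtain ⟨m, rfl⟩ : ∃ m, n = 5 + m := ⟨n - 5, by omega⟩
  rw [Fin.prod_univ_add, Fin.prod_univ_five]
  have e1 : ∀ i : Fin 5, i.val < 4 → dvec (5 + m) α (Fin.castAdd m i) = α := by
    intro i hi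
    unfold dvec
    rw [if_pos]
    rw [Fin.val_castAdd]
    exact hi
  have e2 : dvec (5 + m) α (Fin.castAdd m (4 : Fin 5)) = α ^ 2 := by
    unfold dvec
    rw [if_neg, if_pos]
    · rw [Fin.val_castAdd]
      rfl
    · rw [Fin.val_castAdd]
      decide
  have e3 : ∀ j : Fin m, dvec (5 + m) α (Fin.natAdd 5 j) = 1 := by
    intro j
    unfold dvec
    rw [if_neg, if_neg]
    · rw [Fin.val_natAdd]
      omega
    · rw [Fin.val_natAdd]
      omega
  rw [e1 0 (by decide), e1 1 (by decide), e1 2 (by decide), e1 3 (by decide), e2,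
    Finset.prod_eq_one (fun j _ => e3 j), mul_one]
  have h6 : α * α * α * α * α ^ 2 = (α ^ 3) ^ 2 := by ring
  rw [h6, hα, one_pow]

end Cfsg.Agent.Lib.Helper65.SUG2
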